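import Cfsg.Agent.Mw.I1
import Cfsg.Agent.Mw.L3
import Cfsg.Agent.S2073
import Cfsg.Agent.S3100

/-! Groups whose Sylow 2-subgroup acts faithfully on a subgroup of type McL. -/

set_option autoImplicit false
set_option linter.unusedSectionVars false

namespace CF.Mw

open Subgroup Cfsg CF.BG CF.Sig CF.Ab2 CF.GW CF.Sol2A
open Function (Surjective Injective)
open scoped commutatorElement

universe u
variable {G : Type u} [Group G] [Finite G] {K N R : Subgroup G}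

theorem id_aut (h : MC 8 K) (nR : R ≤ 𝐍 K) (d : R ⊓ Cz K = ⊥) : ∃ α : R →* MulAut Spor.McL, Injective α := by
  obtain ⟨ψ⟩ := cov_iso (h.mt.resolve_right (by simp)).2 sx_mcl
  have nZ := nR.trans (norm_Cz le_rfl)
  refine ⟨(MulAut.congr ψ).toMonoidHom.comp ((normalizerMonoidHom _).comp ((inclusion (qt_norm _ nR)).comp (qtHom nZ))),
    (injective_iff_map_eq_one _).2 fun r e => Subtype.ext (mem_bot.1 (d ▸ mi r.2 (czq h.pc.perfect (nR r.2) ?_)))⟩
  replace e := (MulAut.congr ψ).map_eq_one_iff.1 e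
  rw [MonoidHom.comp_apply, ← MonoidHom.mem_ker, normalizerMonoidHom_ker, mem_subgroupOf] at e
  exact qtHom_apply nZ r ▸ e

theorem id_dvd {X : Subgroup (MulAut Spor.McL)} (p : P2 X) : ♯X ∣ 256 := by
  have c : ♯X ∣ 256 * 7016625 := (card_subgroup_dvd_card X).trans (by
    rw [(Inn _).card_eq_card_quotient_mul_card_subgroup, Agent.S2073.result]
    exact (Nat.mul_dvd_mul_left 2 ((card_range_dvd _).trans is_mcl.2.dvd)).trans (by norm_num))
  obtain ⟨j, b⟩ := p.isPGroup.exists_card_eq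
  exact (b ▸ Nat.Coprime.pow_left j (by norm_num)).dvd_of_dvd_mul_right c

theorem id_rng {α : R →* MulAut Spor.McL} (i : Injective α) (p : P2 R) :
    ♯R ∣ 256 ∧ (256 ≤ ♯R → Syl 2 α.range ⊤) := by
  have c : ♯α.range = ♯R := (Nat.card_congr (MonoidHom.ofInjective i).toEquiv).symm
  have p' : P2 α.range := by rwa [PiGrp, c]
  refine ⟨c ▸ id_dvd p', fun k => ?_⟩
  obtain ⟨Q, s, l⟩ := exists_syl_le (le_top (a := α.range)) p'
  exact s.of_card_le le_top p' ((Nat.le_of_dvd (by norm_num) (id_dvd s.pi)).trans (c ▸ k))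

theorem id_ly (h : MC 8 K) (p : P2 R) (nR : R ≤ 𝐍 K) (d : R ⊓ Cz K = ⊥) (c : 256 ≤ ♯R) :
    ∃ P : Sylow 2 Spor.Ly, Nonempty (R ≃* P) := by
  have := Fact.mk p2
  obtain ⟨L, Z, e, φ, m⟩ := md_ly (G := Spor.Ly) ⟨.refl _⟩
  obtain ⟨S, s, l⟩ := exists_syl_le (le_top (a := SW.Tg e φ)) (piGrp_of_isPGroup p2 m.pg)
  have nD : S ≤ 𝐍 Z := fun r hr => by
    obtain ⟨c, k⟩ := m.sw (m.nT S le_top s.pi l hr) false
    exact mem_norm_of_cj_le (m.sg c _ le_top (m.od.cj r) (k.ge.trans (map_norm (m.nV false) _)))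
  obtain ⟨α, a⟩ := id_aut h nR d
  obtain ⟨β, b⟩ := id_aut m.mc ((le_inf le_top nD).trans m.nL) (eq_bot_iff.2 fun y hy =>
    m.sm y (mem_top y) hy.2 (s.pi.elt hy.1))
  obtain ⟨g, -, r⟩ := ((id_rng a p).2 c).syl_conj ((id_rng b s.pi).2 (Nat.le_of_dvd (card_pos' S) (s.dvd_card
    (by rw [card_top, Dce.Ly.isLy.2]; norm_num) (piNat_pow_self p2 8))))
  obtain ⟨P, rfl⟩ := s.exists_sylow_top
  exact ⟨P, ⟨(MonoidHom.ofInjective a).trans (((equivMapOfInjective _ _ (conj_inj g)).trans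
    (MulEquiv.subgroupCongr r.symm)).trans (MonoidHom.ofInjective b).symm)⟩⟩

theorem id_le (h : MC 8 K) (nR : R ≤ 𝐍 K) (d : R ⊓ Cz K = ⊥) (n : K ≤ 𝐍 N) : K ≤ N ∨ R ⊓ N = ⊥ :=
  (pc_le_or h.pc n).imp_right fun l => eq_bot_iff.2 fun x hx => d ▸ mi hx.1 (mem_Cz (nR hx.1) fun k hk =>
    have m := cm_mem (nR hx.1) hk
    h.cz m (l (mi m (cm_inv (cm_mem (n hk) hx.2)))))

theorem MC.id (h : MC 8 K) (s : Syl 2 R ⊤) (nR : R ≤ 𝐍 K) (d : R ⊓ Cz K = ⊥) :
    ∃ n A, PC A (⊤ : Subgroup G) ∧ MT n A := by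
  have := Fact.mk p2
  obtain ⟨A, -, ⟨sA, KA, sS⟩, mn⟩ := exists_minimal (P := fun A => SubN A ⊤ ∧ K ≤ A ∧ Syl 2 (R ⊓ A) A) (H := ⊤)
    ⟨.refl, le_top, by rwa [inf_top_eq]⟩
  have key : ∀ N, N ⊴ A → N = A ∨ N ≤ 𝒪 A := fun N n => by
    have k := sS.inf_normal n
    rw [inf_assoc, inf_eq_right.2 n.le] at k
    exact (id_le h nR d (KA.trans n.norm)).imp (fun l => mn N ⟨n.subN.trans sA, l, k⟩ n.le) fun e =>
      le_O n (e ▸ k).pi'_of_eq_bot
  have ne : ∀ N, K ≤ N → ¬ N ≤ 𝒪 A := fun N a b => h.pc.not_pi' p2 ((O_pi _ A).le (a.trans b))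
  have nO := (O_normal {2}ᶜ A).norm
  have ns : NS (qt (𝒪 A) A) := ⟨fun e => ne A KA ((qt_eq_bot nO).1 e), by
      rw [← qt_comm nO nO, (key _ (der_normal A)).resolve_right (ne _ (h.pc.perfect.ge.trans (commutator_mono KA KA)))],
    fun N n => (key (qp _ N) ⟨qp_le_of_le_qt (O_normal _ A) n.le, norm_qp nO n.norm⟩).symm.imp
      (fun l => by rw [← qt_qp N, qt_of_le l]) fun e => by rw [← qt_qp N, e]⟩
  have sim := ns.simple
  have pA : PC A ⊤ := (pcomp_iff p2).2 ⟨sA, qs_of_isSimpleGroup ns.not_comm,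
    (key _ ⟨pElementClosure_le A, (le_norm_self A).trans (normalizer_le_normalizer_pElementClosure A)⟩).resolve_right
      (ne _ ((h.pc.Op' p2).ge.trans (pElementClosure_mono KA)))⟩
  have kq : ∀ l, qtHom nO l = 1 → Eo l.1 := fun l r => eo_O (by rwa [← MonoidHom.mem_ker, qtHom_ker, mem_subgroupOf] at r)
  have sq := qtHom_surj nO
  suffices Spor.IsoMcL (qt (𝒪 A) A) ∨ Spor.IsoLy (qt (𝒪 A) A) from this.elim
    (fun k => ⟨8, A, pA, .of_iso _ sq kq (.inl ⟨rfl, k⟩)⟩) fun k => ⟨11, A, pA, .of_iso _ sq kq (.inr ⟨rfl, k⟩)⟩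
  generalize qtHom nO = f at kq sq
  have ok : Od f.ker := piGrp_of_forall_elt fun x hx => eo_coe.2 (kq x hx)
  by_cases l : R ⊓ A ≤ K
  · have k := (hall_subgroupOf sS le_rfl).map f
    rw [subgroupOf_self, map_top_of_surjective f sq] at k
    have pK : PC (K.subgroupOf A) (K.subgroupOf A) := (pcomp_iff p2).2 ⟨.refl, (pqs_map_iff p2 A.subtype_injective).1
      ((map_subgroupOf KA).symm ▸ h.pc.pqs p2)⟩
    exact id_mcl ⟨CT.PComp.map pK p2 f fun e => pK.not_pi' p2 (ok.le ((Subgroup.map_eq_bot_iff _).1 e)),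
      (h.mt.sub KA).map f (od_sol ok.inf_right)⟩ k (map_mono (subgroupOf_mono A l))
  have sK := (s.of_le le_sup_left le_top).inf_normal (N := K) ⟨le_sup_right, sup_le nR (le_norm_self K)⟩
  obtain ⟨g, a, -⟩ := (h.mt.resolve_right (by simp)).2
  have c1 := Nat.le_of_dvd (card_pos' _) (sK.dvd_card ((by rw [is_mcl.2]; norm_num : 2 ^ 7 ∣ _).trans
    (card_dvd_of_surjective g a)) (piNat_pow_self p2 7))
  have lt : R ⊓ K < R ⊓ A := lt_of_le_of_ne (inf_le_inf_left R KA) fun e => l (e.ge.trans inf_le_right)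
  obtain ⟨i, c2⟩ := card_dvd lt.le
  have c3 := card_lt lt
  obtain ⟨P, ⟨e⟩⟩ := id_ly h sS.pi (inf_le_left.trans nR) (eq_bot_mono d (inf_le_inf_right _ inf_le_left))
    (by rcases i with _ | _ | i <;> nlinarith)
  obtain ⟨S, r⟩ := (id_syl sS inf_le_right le_rfl sq).exists_sylow_top
  exact .inr (Agent.S3100.result ns.not_comm S ⟨P, ⟨(MulEquiv.subgroupCongr r).trans ((MonoidHom.ofInjective
    ((injective_iff_map_eq_one _).2 fun x k => Subtype.ext (eo_one (kq (inclusion inf_le_right x) k) (sS.pi.elt x.2)))).symm.trans e)⟩⟩)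

end CF.Mw
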